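import Cfsg.Agent.CosetCert.ONCollapse.FactsData
import Cfsg.Agent.CosetCert.ONCollapse.JustData
import Cfsg.Agent.CosetCert.ONCollapse.EdgeData
import Cfsg.Agent.CosetCert.ONCollapse.RepData
import Cfsg.Agent.CosetCert.ONCollapse.TreeData
import Cfsg.Prelude.Def_Spor_ON
import Cfsg.Agent.CosetCert.CoxExtra
import Cfsg.Agent.CosetCert.Pack

/-! Generated: the certificate. -/

set_option maxRecDepth 100000

namespace Cfsg.Agent.CosetCert.ONCollapse

noncomputable def data : Data where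
  K := 8
  n := 1
  M := 219
  Nf := 461
  nR := 38
  iv := fun x => if x = 0 then 7 else if x = 7 then 0 else x
  F := get48 factStore
  J := getVar justStore
  E := get48 edgeStore
  L := get48 repStore
  P := get48 treeStore
  W := [

    [1, 1],
    [1, 2, 1, 2, 1, 2],
    [1, 3, 1, 3],
    [1, 4, 1, 4],
    [1, 5, 1, 5],
    [1, 6, 1, 6],
    [2, 2],
    [2, 3, 2, 3, 2, 3],
    [2, 4, 2, 4],
    [2, 5, 2, 5],
    [2, 6, 2, 6],
    [3, 3],
    [3, 4, 3, 4, 3, 4, 3, 4, 3, 4, 3, 4, 3, 4, 3, 4],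
    [3, 5, 3, 5],
    [3, 6, 3, 6],
    [4, 4],
    [4, 5, 4, 5, 4, 5],
    [4, 6, 4, 6],
    [5, 5],
    [5, 6, 5, 6, 5, 6],
    [6, 6],
    [1, 6, 7, 7],
    [1, 6, 4, 3, 4, 3, 4, 3, 4, 3],
    [3, 7, 4, 7, 4, 3, 4, 0, 4, 0],
    [4, 7, 3, 7, 3, 4, 3, 0, 3, 0],
    [2, 3, 4, 0, 2, 3, 4, 0, 2, 3, 4, 0, 2, 3, 4, 0, 2, 3, 4, 0],
    [0, 2, 3, 0, 3, 2, 0, 2, 3, 0, 3],
    [0, 5, 4, 0, 4, 5, 0, 5, 4, 0, 4],
    [6, 5, 7, 2, 4, 2, 4, 1, 3, 1, 6, 4, 2],
    [],
    [0, 7],
    [1, 1],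
    [2, 2],
    [3, 3],
    [4, 4],
    [5, 5],
    [6, 6],
    [7, 0]]
  PW := fun k => Nat.land (Nat.shiftRight 0x2800000000000000000000000e700000000000000000000000c600000000000000000000000a500000000000000000000000840000000000000000000000063000000000000000000000004200000000000000000000001010000000000000000000000000000000000329c44114651a0c7000000000001425304c5094c100000000000102418464090610948309483094830948309483000000000000024090a441105000000000000025094854150400000000000008521485214e200000000000000000000420e200000000000000000000000e7000000000000000000e6398e600000000000000000000000c600000000000000000000394e5000000000000000000c5314c500000000000000000000000a500000000000000000000390e400000000000000000000310c400000290a4290a4290a4290a400000000000000000000000840000000000000000000038ce30000000000000000000030cc30000000000000000000028ca30000000000000000008320c83000000000000000000000006300000000000000000000388e200000000000000000000308c200000000000000000000288a2000000000000000000002088200000000000000000062188620000000000000000000000042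 (Nat.mul 100 k)) 0xfffffffffffffffffffffffff
  powers := [

    ([1], 2),
    ([1, 2], 3),
    ([1, 3], 2),
    ([1, 4], 2),
    ([1, 5], 2),
    ([1, 6], 2),
    ([2], 2),
    ([2, 3], 3),
    ([2, 4], 2),
    ([2, 5], 2),
    ([2, 6], 2),
    ([3], 2),
    ([3, 4], 8),
    ([3, 5], 2),
    ([3, 6], 2),
    ([4], 2),
    ([4, 5], 3),
    ([4, 6], 2),
    ([5], 2),
    ([5, 6], 3),
    ([6], 2),
    ([1, 6, 7, 7], 1),
    ([1, 6, 4, 3, 4, 3, 4, 3, 4, 3], 1),
    ([3, 7, 4, 7, 4, 3, 4, 0, 4, 0], 1),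
    ([4, 7, 3, 7, 3, 4, 3, 0, 3, 0], 1),
    ([2, 3, 4, 0], 5),
    ([0, 2, 3, 0, 3, 2, 0, 2, 3, 0, 3], 1),
    ([0, 5, 4, 0, 4, 5, 0, 5, 4, 0, 4], 1),
    ([6, 5, 7, 2, 4, 2, 4, 1, 3, 1, 6, 4, 2], 1),
    ([], 0),
    ([0, 7], 1),
    ([1], 2),
    ([2], 2),
    ([3], 2),
    ([4], 2),
    ([5], 2),
    ([6], 2),
    ([7, 0], 1)]

/-- The numbering of the generators. -/
def enc : Cfsg.Spor.ON.Gen → Nat
  | .g => 0
  | .a => 1
  | .b => 2
  | .c => 3
  | .d => 4
  | .e => 5
  | .f => 6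

/-- The generator of a number. -/
def dec : Nat → Cfsg.Spor.ON.Gen × Bool
  | 0 => (.g, true)
  | 1 => (.a, true)
  | 2 => (.b, true)
  | 3 => (.c, true)
  | 4 => (.d, true)
  | 5 => (.e, true)
  | 6 => (.f, true)
  | _ => (.g, false)

/-- The word added to the relators. -/
def closeWord : List (Cfsg.Spor.ON.Gen × Bool) := [(Cfsg.Spor.ON.Gen.f, true), (Cfsg.Spor.ON.Gen.e, true), (Cfsg.Spor.ON.Gen.g, false), (Cfsg.Spor.ON.Gen.b, true), (Cfsg.Spor.ON.Gen.d, true), (Cfsg.Spor.ON.Gen.b, true), (Cfsg.Spor.ON.Gen.d, true), (Cfsg.Spor.ON.Gen.a, true), (Cfsg.Spor.ON.Gen.c, true), (Cfsg.Spor.ON.Gen.a, true), (Cfsg.Spor.ON.Gen.f, true), (Cfsg.Spor.ON.Gen.d, true), (Cfsg.Spor.ON.Gen.b, true)]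

/-- The relator words with the extra word. -/
def relWords : List (List (Cfsg.Spor.ON.Gen × Bool)) :=
  coxWords [.a, .b, .c, .d, .e, .f] Cfsg.Spor.ON.edges Cfsg.Spor.ON.extra ++ [closeWord]

end Cfsg.Agent.CosetCert.ONCollapse
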